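/-
Project BMU.  The involutions of the second Conway group are conjugate to three sign changes.
-/
import Cfsg.Agent.BMU.BD
import Cfsg.Agent.H38.MonTwoB
import Cfsg.Agent.H26.CoInv
import Cfsg.Agent.H55.Mask

set_option autoImplicit false
set_option maxRecDepth 100000
set_option synthInstance.maxSize 4000

namespace Cfsg.Agent.BMU

open Subgroup MulAction H15 H97
open Cfsg.Agent.H14 (bits enc idx pc all2 all2_iff mem_bits)
open Cfsg.Agent.H55 (act img chkM24 IsTab exists_M24_of_chk)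
open scoped Pointwise

/-- `g` centralises the sign change and moves `v` to `w` -/
def Mv (r : ℕ) (hr : IsCw (bits r)) (v w : leechLattice) : Prop :=
  ∃ g : Co0, g * signC _ hr = signC _ hr * g ∧ g • v = w

variable {r : ℕ} {hr : IsCw (bits r)}

theorem Mv.trans {v w x : leechLattice} (h : Mv r hr v w) (h' : Mv r hr w x) : Mv r hr v x := by
  obtain ⟨g, a, rfl⟩ := h
  obtain ⟨k, b, rfl⟩ := h'
  exact ⟨k * g, by rw [mul_assoc, a, ← mul_assoc, b, mul_assoc], mul_smul _ _ _⟩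

theorem signC_eq {c d : Finset GolayPt} (hc : IsCw c) (hd : IsCw d) (e : c = d) : signC c hc = signC d hd := by
  subst e; rfl

theorem sign_comm {c d : Finset GolayPt} (hc : IsCw c) (hd : IsCw d) :
    signC c hc * signC d hd = signC d hd * signC c hc := by
  rw [signC_mul, signC_mul]; exact signC_eq _ _ (symmDiff_comm _ _)

theorem tab_comm {t : ℕ} {σ : M24} (h : IsTab t σ) (e : act t r = r) :
    permC σ * signC _ hr = signC _ hr * permC σ := by
  rw [← mul_inv_eq_iff_eq_mul, permC_conj_signC]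
  exact signC_eq _ _ (by rw [h.smul_bits, e])

theorem xi_comm' {d : Finset GolayPt} (hd : IsCw d) (h : ∀ i j, tet j = tet i → (j ∈ d ↔ i ∈ d)) :
    xi * signC d hd = signC d hd * xi := co0_ext fun v => Subtype.ext <| funext fun i => by
  apply mul_left_cancel₀ (two_ne_zero (α := ℤ))
  rw [mul_smul, mul_smul, H38.MT.xi_tS, signC_apply, signC_apply]
  by_cases hi : i ∈ d
  · rw [if_pos hi, if_pos hi, mul_neg, mul_neg, H38.MT.xi_tS, H38.MT.tS_congr (w := fun j => -1 * (v : Vec) j),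
      H38.MT.tS_mul]
    · ring
    · intro j hj
      rw [signC_apply, if_pos ((h i j hj).2 hi), neg_one_mul]
  · rw [if_neg hi, if_neg hi, H38.MT.xi_tS, H38.MT.tS_congr (w := v)]
    intro j hj
    rw [signC_apply, if_neg (mt (h i j hj).1 hi)]

theorem sign_to {v : leechLattice} {C : Finset GolayPt} (hC : IsCw C) {p : GolayPt} {e : ℤ}
    (a : |(v : Vec) p| = |e|) (b : p ∈ C ↔ (v : Vec) p ≠ e) : ((signC C hC • v : leechLattice) : Vec) p = e := by
  rw [signC_apply]
  rw [abs_eq_abs] at a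
  by_cases h : (v : Vec) p = e
  · rw [if_neg (by rw [b]; simp [h]), h]
  · rw [if_pos (b.2 h), a.resolve_left h, neg_neg]

/-- the tables stabilise the word and move every pair of points outside to the standard pair -/
def PairOK (r : ℕ) (A B : List ℕ) : Prop :=
  (∀ t ∈ A ++ B, chkM24 t = true ∧ act t r = r) ∧ ∀ i < 24, r.testBit i = false → ∃ a ∈ A, img a i = 23 ∧
    ∀ j < 24, r.testBit j = false → j ≠ i → ∃ b ∈ B, img b 23 = 23 ∧ img b (img a j) = 0

theorem mv4 {A B : List ℕ} (h : PairOK r A B) {v : leechLattice} (hv : sqNorm (v : Vec) = 32)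
    (h4 : 0 < cnt v 4) (hf : ∀ p ∈ bits r, (v : Vec) p = 0) : Mv r hr v uP := by
  have s1 := shape32 v.2 hv
  unfold HasShape at s1
  obtain ⟨i, j, hij, hi, hj⟩ := pick2 (x := v) (k := 4) (by omega)
  have n : ∀ p, |(v : Vec) p| = 4 → r.testBit (idx p) = false := fun p hp => by
    cases k : r.testBit (idx p)
    · rfl
    · rw [hf p (mem_bits.2 k)] at hp; exact absurd hp (by decide)
  obtain ⟨a, ha, a1, a2⟩ := h.2 _ (H14.idx_lt i) (n i hi)
  obtain ⟨b, hb, b1, b2⟩ := a2 _ (H14.idx_lt j) (n j hj) fun e => hij (H14.idx_injective e).symm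
  obtain ⟨a3, a4⟩ := h.1 a (List.mem_append_left _ ha)
  obtain ⟨b3, b4⟩ := h.1 b (List.mem_append_right _ hb)
  obtain ⟨σ, hσ⟩ := exists_M24_of_chk a3
  obtain ⟨τ, hτ⟩ := exists_M24_of_chk b3
  have e1 : (τ : Equiv.Perm GolayPt) ((σ : Equiv.Perm GolayPt) i) = none :=
    H14.idx_injective (by rw [hτ, hσ, a1, b1]; rfl)
  have e2 : (τ : Equiv.Perm GolayPt) ((σ : Equiv.Perm GolayPt) j) = some 0 :=
    H14.idx_injective (by rw [hτ, hσ, b2]; rfl)
  obtain ⟨w, hw⟩ : ∃ w, w = permC τ • permC σ • v := ⟨_, rfl⟩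
  have w1 : |(w : Vec) none| = |4| := by rw [hw, ← e1, permC_apply', permC_apply', hi]; rfl
  have w2 : |(w : Vec) (some 0)| = |4| := by rw [hw, ← e2, permC_apply', permC_apply', hj]; rfl
  obtain ⟨C, hC, p1, p2, -⟩ := exists_cw_pattern ((w : Vec) none ≠ 4) ((w : Vec) (some 0) ≠ 4) False False
  refine (Mv.trans ⟨_, tab_comm hσ a4, rfl⟩ ⟨_, tab_comm hτ b4, hw.symm⟩).trans
    ⟨signC C hC, sign_comm _ _, Subtype.ext (eq_of_dot ?_ ?_)⟩
  · rw [co0_norm, hw, co0_norm, co0_norm, hv, sqNorm_uP]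
  · rw [show uP = w4 none (some 0) 1 rfl from Subtype.ext (by decide +kernel), dot_w4, sign_to hC w1 p1,
      sign_to hC w2 p2]
    decide +kernel

/-- the tables move every octad outside the word over the standard tetrad -/
def OctOK (r : ℕ) (C : List ℕ) : Prop :=
  (∀ t ∈ C, chkM24 t = true ∧ act t r = r) ∧ (all2 64 64 fun x => decide (enc x &&& r = 0 → pc (enc x) = 8 →
    ∃ t ∈ C, act t (enc x) &&& 8388615 = 8388615 ∧ ∀ i j, tet j = tet i → (j ∈ bits r ↔ i ∈ bits r))) = true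

theorem mv_all {A B C : List ℕ} (h : PairOK r A B) (h' : OctOK r C) (h0 : bits r ≠ ∅) {v : leechLattice}
    (hv : sqNorm (v : Vec) = 32) (hf : signC _ hr • v = v) : Mv r hr v uP := by
  by_cases h4 : 0 < cnt v 4
  · exact mv4 h hv h4 ((signC_fix_iff hr v).1 hf)
  have hf' := (signC_fix_iff hr v).1 hf
  have s1 := shape32 v.2 hv
  unfold HasShape at s1
  obtain ⟨p, hp⟩ := Finset.nonempty_iff_ne_empty.2 h0
  have c0 := cnt_pos (x := v) (k := 0) (i := p) (by rw [hf' p hp]; rfl)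
  have b : ∀ i, |(v : Vec) i| = 2 ↔ (v : Vec) i % 4 = 2 % 4 := fun i => by
    have := abs_le_of_sqNorm_lt (x := v) (b := 5) (by norm_num) (by omega) i
    constructor <;> intro k <;> rcases abs_cases ((v : Vec) i) with l | l <;> omega
  obtain ⟨x, hx, e⟩ := H14.mem_cSets_iff.1 (isCw_mod4 v.2 2)
  have m : ∀ i, i ∈ bits (enc x) ↔ |(v : Vec) i| = 2 := fun i => by rw [← e, b]; simp
  obtain ⟨t, ht, t1, t2⟩ := of_decide_eq_true (all2_iff.1 h'.2 x hx) (Nat.eq_of_testBit_eq fun i => by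
      rw [Nat.testBit_and, Nat.zero_testBit]
      by_cases l : i < 24
      · cases k : r.testBit i
        · simp
        · have := (m (H14.pt i)).not.2 (by rw [hf' _ (mem_bits.2 (by rwa [H14.idx_pt l]))]; decide)
          rw [mem_bits, H14.idx_pt l] at this
          simp [this]
      · rw [Nat.testBit_lt_two_pow ((H14.enc_lt hx).trans_le (Nat.pow_le_pow_right (by norm_num) (by omega)))]
        rfl)
    (by rw [← H14.card_bits, show bits (enc x) = Finset.univ.filter fun i => |(v : Vec) i| = 2 from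
      Finset.ext fun i => by simp [m]]; change cnt v 2 = 8; omega)
  obtain ⟨σ, hσ⟩ := exists_M24_of_chk (h'.1 t ht).1
  obtain ⟨w, hw⟩ : ∃ w, w = permC σ • v := ⟨_, rfl⟩
  have k : ∀ q, q ∈ bits 8388615 → |(w : Vec) q| = 2 := fun q hq => by
    rw [← t1, H14.bits_and, Finset.mem_inter, ← hσ.smul_bits, Finset.mem_smul_finset] at hq
    obtain ⟨⟨p, hp, rfl⟩, -⟩ := hq
    rw [hw]; exact (congrArg abs (permC_apply' σ v p)).trans ((m p).1 hp)
  obtain ⟨D, hD, p1, p2, p3, p4⟩ := exists_cw_pattern ((w : Vec) none ≠ 2) ((w : Vec) (some 0) ≠ -2)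
    ((w : Vec) (some 1) ≠ -2) ((w : Vec) (some 2) ≠ -2)
  have M : Mv r hr v (xi • signC D hD • w) := (Mv.trans ⟨_, tab_comm hσ (h'.1 t ht).2, hw.symm⟩
    ⟨_, sign_comm _ _, rfl⟩).trans ⟨xi, xi_comm' hr t2, rfl⟩
  refine M.trans (mv4 h (by rw [co0_norm, co0_norm, hw, co0_norm, hv]) (cnt_pos (i := none) ?_)
    ((signC_fix_iff hr _).1 ?_))
  · have := xi_apply_tet0 (signC D hD • w) none (by decide)
    rw [sign_to hD (k _ (by decide)) p1, sign_to hD (k _ (by decide)) p2, sign_to hD (k _ (by decide)) p3,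
      sign_to hD (k _ (by decide)) p4] at this
    rw [show ((xi • signC D hD • w : leechLattice) : Vec) none = 4 by omega]; rfl
  · obtain ⟨g, g1, g2⟩ := M
    rw [← g2, ← mul_smul, ← g1, mul_smul, hf]

def A8 : List ℕ := [0xa29c88a4cd7964c0905638e60aae17, 0x7d2763a8a24d60d6024189868712eb, 0x63ce275068945b60a88b34ca0add30, 0x22b42c0c149e56791aa1cdd78896c, 0x42a72ad0c06152f159b71c5c13ac90, 0x7da64a84a044589952ed71c6a30970, 0x250eb2caa90bac205d8830e309a9af, 0x580748bcb0b4d0db8a4c338e9a8544, 0x650763a8a9418170ca0f9ba22a916d, 0x522219bca091af04896d38eac75894, 0xd1d6aa4edb8d8b049e499a222c10a, 0xb41ca190d76968f402423c6ab9a42c, 0x4cb3de3015648535362cc6f73094, 0x34778be6b4153095941754c23b284, 0xb5e282bea291c2a4b17470e60341a4, 0xbdab49ca307b9ac5a928398a418820]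
def B8 : List ℕ := [0xbdab49ca307b9ac5a928398a418820, 0xbaa612d87441a0f4b04471e2dac80b, 0xb8a32aa0cd59c2ca25ea995d0182c4, 0xb866c3aab078c8b4ca888b8c02b6c2, 0xbcaa873c64b1a01a2da02ccec8a922, 0xb90b28a8cf63a09b040da9c7498968, 0xbb2b29b5d0796825008819e213592b, 0xba46c9caa823850005f42c4f6329ab, 0xbbce99b5d661500588948d4613424a, 0xbd8cc9a2a9514148342289dd21916f, 0xba06b8b0cd01c2253ed074cb4ac924, 0xb88a8334e0b0d2b642448d5d49a82f, 0xba662182b07982a23648714eb8d196, 0xbd8e0ac0cf095a44a16a1ba3498a4c, 0xb80cb9aaa4a39b27b1281c4e22c2c1]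
def C8 : List ℕ := [0xbdab49ca307b9ac5a928398a418820, 0x42a72ad0c06152f159b71c5c13ac90, 0x250eb2caa90bac205d8830e309a9af, 0x4cb3de3015648535362cc6f73094, 0xb3eaa8b26d138104c897194e832e81, 0x812221a0c05ce97b25aa754ec2bc32, 0xb0a6b1b23279e0a23437a98a970288, 0x93cf732cb44b8166a84888e61a9190, 0xb269388d7439f6a0212a962d1916a, 0x43cd428a2d24e0b0aad2754e91dc0c, 0x34778be6b4153095941754c23b284, 0x7d8ec8de6b915a25120930ea875001]
def A12 : List ℕ := [0x33692b021151ea51ac2f209c864d37, 0x34d19d6965144c38deb4492175c90, 0x5a908b6751a4cf42dca3dc2c2c882, 0x3540da4616496e851183588ee0cdf2, 0x902a2a42d73b9ac40d692194f2cc31, 0xace22b42ed4b8c342cec7d0850c940, 0x9ca2d35e802b2091b907508817d975, 0x3460dbda4208c0e51d045cde9654b4, 0xa1a17ac8513ba6342c8a6002f4b4b6, 0x91aedac45658e0e384af4810a24d94, 0x5eb314616530ce49d0b1b5e525032, 0xbdab49ca307b9ac5a928398a418820]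
def B12 : List ℕ := [0xbdab49ca307b9ac5a928398a418820, 0xbcac6836b14944e0ad0c7cc64500f4, 0xbc6c6a345248ea80b1cb780aa24cf0, 0xbd8d11565428c040a1c95356764df0, 0xb8a86ac2203a64b220ae0b5e365953, 0xb99b31541128e0b3a881659c9451f2, 0xbc666902b4784481b08b4b4ea758b0, 0xb9854036b172608230af548e15d873, 0xbb6c094674512ac0a1cf598a9188f0, 0xb88159da141a8c561c887c92b73431, 0xb82c23428d4aa2b1a0ec754a124df2]
def A16 : List ℕ := [0x8014b4bea29c885a20e38b8d663437, 0xb0a8c94540339a93bca8a8d619c2e4, 0xb05714268491c5553986195ed9de00, 0x14225628f61cc09aa166939f7a3481, 0x6856e94d202d2e6a8e27431e2512d0, 0xb416c550d73a04e93e331d4a14900d, 0x5ea63a5108bc2ca4c6b2ba565104d, 0xbdab49ca307b9ac5a928398a418820]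
def B16 : List ℕ := [0xbdab49ca307b9ac5a928398a418820, 0xb89c83c9361d6117a8d3a31642b401, 0xbb4ef71a21aac941c8ac42a7648202, 0xbd9ea9156d89e14aa26c30d2070824, 0xbb6291aa41994077d0d562d10712c2, 0xbb4c51c56063ac89d68a93d3038444, 0xb80f34d58173da3a2972444a234096]

theorem ok8 : PairOK 2769128 A8 B8 ∧ OctOK 2769128 C8 := by unfold PairOK OctOK; decide +kernel
theorem ok12 : PairOK 57274 A12 B12 ∧ OctOK 57274 [] := by unfold PairOK OctOK; decide +kernel
theorem ok16 : PairOK 4120552 A16 B16 ∧ OctOK 4120552 [0xbdab49ca307b9ac5a928398a418820] := by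
  unfold PairOK OctOK; decide +kernel

theorem cw8 : IsCw (bits 2769128) := isCw_bits (by decide +kernel)
theorem cw12 : IsCw (bits 57274) := isCw_bits (by decide +kernel)
theorem cw16 : IsCw (bits 4120552) := isCw_bits (by decide +kernel)

/-- an involution that fixes a minimal vector -/
theorem inv2 {u : leechLattice} (hu : sqNorm (u : Vec) = 32) {k : Co0} (hk : k • u = u) (h2 : k * k = 1)
    (h1 : k ≠ 1) : ∃ g : Co0, g • u = uP ∧ (g * k * g⁻¹ = signC _ cw8 ∨ g * k * g⁻¹ = signC _ cw12 ∨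
      g * k * g⁻¹ = signC _ cw16) := by
  obtain ⟨c, hc, e⟩ := H26.CoInv.isConj_signC h2
  obtain ⟨a, e⟩ := isConj_iff.1 e
  have key : ∀ {r : ℕ} (hr : IsCw (bits r)) {A B C : List ℕ}, PairOK r A B ∧ OctOK r C → bits r ≠ ∅ →
      (∃ σ ∈ M24, σ • c = bits r) → ∃ g : Co0, g • u = uP ∧ g * k * g⁻¹ = signC _ hr :=
    fun hr _ _ _ h h0 ⟨σ, hσ, e1⟩ => by
      have e2 : permC ⟨σ, hσ⟩ * a * k * (permC ⟨σ, hσ⟩ * a)⁻¹ = signC _ hr := by
        rw [← signC_eq (isCw_smul hσ hc) hr e1, ← permC_conj_signC ⟨σ, hσ⟩ c hc, ← e]; group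
      obtain ⟨g, g1, g2⟩ := mv_all (hr := hr) h.1 h.2 h0 (v := (permC ⟨σ, hσ⟩ * a) • u) (by rw [co0_norm, hu])
        (e2 ▸ (mem_stab_conj _ k u).1 hk)
      exact ⟨g * (permC ⟨σ, hσ⟩ * a), by rw [mul_smul, g2], by
        rw [← mul_inv_eq_iff_eq_mul] at g1
        rw [← g1, ← e2]; group⟩
  rcases hc.card_cases with n | n | n | n | n
  · obtain rfl := Finset.card_eq_zero.1 n
    exact absurd (conj_eq_one_iff.1 (e.trans signC_empty)) h1
  · exact (key cw8 ok8 (by decide +kernel) (H14.m24_octad_transitive ⟨hc, n⟩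
      (H14.bits_mem_octads (by decide +kernel) (by decide +kernel)))).imp fun g h => ⟨h.1, .inl h.2⟩
  · exact (key cw12 ok12 (by decide +kernel) (H14.m24_dodecad_transitive ⟨hc, n⟩
      (H14.bits_mem_dodecads (by decide +kernel) (by decide +kernel)))).imp fun g h => ⟨h.1, .inr (.inl h.2)⟩
  · obtain ⟨σ, hσ, e1⟩ := H14.m24_octad_transitive (o := cᶜ) (o' := bits 12656663)
      ⟨hc.compl, by rw [Finset.card_compl, card_pt, n]⟩ (H14.bits_mem_octads (by decide +kernel) (by decide +kernel))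
    exact (key cw16 ok16 (by decide +kernel) ⟨σ, hσ, by
      rw [show bits 4120552 = (bits 12656663)ᶜ by decide +kernel, ← e1]
      ext p
      simp only [Finset.mem_compl, ← Finset.inv_smul_mem_iff, not_not]⟩).imp fun g h => ⟨h.1, .inr (.inr h.2)⟩
  · have := (signC_fix_iff hc (a • u)).1 (e ▸ (mem_stab_conj _ k u).1 hk)
    have e3 : sqNorm ((a • u : leechLattice) : Vec) = 0 := Finset.sum_eq_zero fun p _ => by
      rw [this p (Finset.eq_univ_of_card c (n.trans card_pt.symm) ▸ Finset.mem_univ p)]; rfl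
    rw [co0_norm, hu] at e3
    exact absurd e3 (by decide)

end Cfsg.Agent.BMU
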