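/-
Project BMU.  Involutions in the centraliser of `z` outside `Oz z`.
-/
import Cfsg.Agent.BMU.Inv2
import Cfsg.Agent.BMU.Excl

set_option autoImplicit false
set_option maxRecDepth 100000
set_option synthInstance.maxSize 4000

namespace Cfsg.Agent.BMU

open Subgroup MulAction H15 H97
open Cfsg.Agent.H14 (bits enc idx pc all2 all2_iff mem_bits)
open Cfsg.Agent.H55 (lvec)
open Cfsg.Agent.CO1 (Cz Oz mem_Cz)

/-- the sign change on vectors -/
def sg (r : ℕ) (x : Vec) : Vec := fun i => if i ∈ bits r then -x i else x i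

/-- half of a vector lies in the lattice -/
def Hf (x : Vec) : Prop := (∀ i, x i % 2 = 0) ∧ (fun i => x i / 2) ∈ leechLattice

instance (x : Vec) : Decidable (Hf x) := by unfold Hf; infer_instance

theorem cg_of {x y : leechLattice} {a b : Vec} (ha : (x : Vec) = a) (hb : (y : Vec) = b)
    (h : Hf (a - b) ∨ Hf (a - b - uP)) : Cg uP x y := by
  subst ha hb
  rcases h with h | h
  · exact ⟨⟨_, h.2⟩, .inl (Subtype.ext (funext fun i => by
      have := h.1 i
      simp only [AddSubgroup.coe_add, Pi.add_apply, Pi.sub_apply] at this ⊢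
      omega))⟩
  · exact ⟨⟨_, h.2⟩, .inr (Subtype.ext (funext fun i => by
      have := h.1 i
      simp only [AddSubgroup.coe_add, Pi.add_apply, Pi.sub_apply] at this ⊢
      omega))⟩

theorem T24.pm {u x y : leechLattice} (hu : sqNorm (u : Vec) = 32) (hx : T24 u x) (hy : T24 u y)
    (c : Cg u x y) : x = y ∨ x = -y := by
  have a := hx.1
  have b := hy.1
  obtain ⟨w, e | e⟩ := c
  · exact ((short_congr e (by omega) (by omega) (by omega) (by omega)).2 (by omega)).imp Eq.symm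
      fun e => by rw [e, neg_neg]
  · have := nA y u
    rw [dot_comm, hy.2] at this
    have := (short_congr e (by omega) (by omega) (by omega) (by omega)).1
    omega

/-- the ten points outside the dodecad and the standard pair -/
abbrev JJ : Finset GolayPt := bits 8331332

theorem t24_w4 {i j : GolayPt} (hi : i ∈ JJ) (hj : j ∈ JJ) (h : i ≠ j) {e : ℤ} (he : e % 2 = 1) (e2 : e ^ 2 = 1) :
    T24 uP (w4 i j e he) := by
  have z : ∀ i ∈ JJ, (uP : Vec) i = 0 := by decide +kernel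
  exact ⟨sqNorm_w4 h he e2, by rw [dot_w4, z i hi, z j hj]; simp⟩

theorem rigid {k : Co0} (hk : k • uP = uP) (f : ∀ i ∈ JJ, ∀ j ∈ JJ, i ≠ j → ∀ e (he : e % 2 = 1), e = 1 ∨ e = -1 →
    k • w4 i j e he = w4 i j e he ∨ k • w4 i j e he = -w4 i j e he) :
    ∃ x ∈ [0, 57274, 8355404, 8364534], k = signC _ (H14.bits_enc_mem x) := by
  have h : ∀ i ∈ JJ, ∀ m, m ≠ i → ((k • e8 i : leechLattice) : Vec) m = 0 := fun i hi m hm => by
    obtain ⟨j, h1, h2, h3⟩ : ∃ j ∈ [some 2, some 6, some 13], i ≠ j ∧ m ≠ j := by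
      clear hi; revert i m; decide +kernel
    have hj : j ∈ JJ := by clear h2 h3; revert j; decide +kernel
    rw [← w4_add i j, co0_smul_add]
    rcases f i hi j hj h2 1 rfl (.inl rfl) with e | e <;> rcases f i hi j hj h2 (-1) rfl (.inr rfl) with e' | e' <;>
      simp [e, e', w4_apply, hm, h3]
  have n := (co0_norm k _).trans (sqNorm_e8 (some 2))
  have n' := n
  rw [sqNorm, Finset.sum_eq_single (some 2) (fun m _ hm => by rw [h _ (by decide) m hm]; rfl) (by simp)] at n'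
  obtain ⟨σ, c, hc, rfl⟩ := mem_monoN.1 (mem_monoN_of_stdCross (e8_mem_stdCross _) (mem_stdCross_of_cnt n
    (cnt_pos (i := some 2) ((sq_eq_sq_iff_abs_eq_abs _ (8 : ℤ)).1 n'))))
  obtain rfl : σ = 1 := Subtype.ext (Equiv.ext fun a => H14.fix_of_rigidOK σ.2 (F := 8331332) (F' := 16777215)
    [459847, 663645, 12985424, 864389, 1454401, 1009728, 1302533, 1384564] (by decide +kernel)
    (fun i hi => by_contra fun n => by
      have := h i hi _ n
      rw [mono_smul_e8, Pi.single_eq_same] at this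
      split_ifs at this <;> omega) a (H14.bits_full ▸ Finset.mem_univ a))
  rw [permC_one, mul_one] at hk f ⊢
  have s : ∀ i ∈ JJ, (i ∈ c ↔ some 2 ∈ c) := fun i hi => by
    by_cases i2 : i = some 2
    · rw [i2]
    rcases f i hi _ (by decide) i2 1 rfl (.inl rfl) with e | e <;>
      have a := congrFun (congrArg Subtype.val e) i <;>
      have b := congrFun (congrArg Subtype.val e) (some 2) <;>
      simp only [signC_apply, w4_apply, AddSubgroup.coe_neg, Pi.neg_apply, if_pos, if_neg i2, if_neg (Ne.symm i2)]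
        at a b <;> split_ifs at a b <;> simp_all
  have n0 : none ∉ c := fun m => absurd ((signC_fix_iff hc _).1 hk _ m) (by decide)
  obtain ⟨x, hx, rfl⟩ := H14.mem_cSets_iff.1 hc
  have : all2 64 64 (fun x => [0, 57274, 8355404, 8364534].any (fun y => enc x == enc y) ||
      decide ((none : GolayPt) ∈ bits (enc x)) || decide ((some 0 : GolayPt) ∈ bits (enc x)) ||
      decide (∃ i ∈ JJ, ¬(i ∈ bits (enc x) ↔ (some 2 : GolayPt) ∈ bits (enc x)))) = true := by decide +kernel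
  have k := all2_iff.1 this x hx
  simp only [Bool.or_eq_true, decide_eq_true_eq, List.any_eq_true, beq_iff_eq] at k
  obtain ⟨y, hy, e⟩ := ((k.resolve_right fun ⟨i, a, b⟩ => b (s i a)).resolve_right
    fun m => absurd ((signC_fix_iff hc _).1 hk _ m) (by decide)).resolve_right n0
  exact ⟨y, hy, signC_eq _ _ (congrArg bits e)⟩

/-- code words that meet the complement of the dodecad in two points -/
def EE (i : GolayPt) : ℕ := [0, 0, 0, 0, 0, 0, 21116, 0, 0, 0, 0, 0, 0, 10558, 0, 0, 72588, 138790, 280334, 545190,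
  1050548, 2120980, 4213932, 0].getD (idx i) 0

/-- a preimage of `4 e_i ± 4 e_j` -/
def xv (i j : GolayPt) (e : ℤ) : Vec := fun p => vTwo (bits (EE i ^^^ EE j)) p +
  (e - 1) * ((if p = j then 2 else 0) + if p = some 1 then 2 else 0)

theorem xv_ok : ∀ i ∈ JJ, ∀ j ∈ JJ, i ≠ j → ∀ e ∈ [1, -1], xv i j e ∈ leechLattice ∧
    dotInt uP (xv i j e) = 0 ∧ ∀ p, (sg 57274 (xv i j e) + xv i j e) p =
      (if p = i then 4 else 0) + (if p = j then 4 * e else 0) := by decide +kernel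

variable {G : Type*} [Group G]

/-- the involution `y` acts on `Oz z` as a dodecad -/
def Dod (z y : G) : Prop :=
  (∃ q ∈ Oz z, q * y * q⁻¹ * y * (q * y * q⁻¹ * y) = z) ∧
  (∃ q : Fin 5 → G, (∀ i, q i ∈ Oz z ∧ q i * y * (q i)⁻¹ * y * (q i * y * (q i)⁻¹ * y) = 1) ∧
    ∀ i j, q i * y * (q i)⁻¹ = q j * y * (q j)⁻¹ → i = j) ∧
  ∀ c : Fin 5 → G, (∀ i, c i ∈ Cz z ∧ ∀ a ∈ Oz z, a * y = y * a → c i * a = a * c i) →
    ∃ i j, i ≠ j ∧ (c i)⁻¹ * c j ∈ Oz z

theorem comm_of_sq {q y : G} (yy : y * y = 1) (h : q * y * q⁻¹ * y * (q * y * q⁻¹ * y) = 1) :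
    q * y * q⁻¹ * y * y = y * (q * y * q⁻¹ * y) := by
  have a : q * y * q⁻¹ * (q * y * q⁻¹) = 1 := by rw [conj_mul, yy, mul_one, mul_inv_cancel]
  rw [mul_assoc _ y y, yy, mul_one, ← inv_eq_of_mul_eq_one_right h, mul_inv_rev, inv_eq_of_mul_eq_one_right yy,
    inv_eq_of_mul_eq_one_right a, ← mul_assoc, yy, one_mul]

namespace BD

variable {u : leechLattice} {z : G} {π : Cz z →* Co0} {R : G → leechLattice → Prop}

theorem lab (M : BD u z π R) {y : Cz z} (yy : (y : G) * y = 1) {q : G} {x : leechLattice} (h : R q x) :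
    R (q * y * q⁻¹ * y) (π y • x + x) := by
  have := M.mul h (M.conj y (M.inv h))
  rwa [inv_eq_of_mul_eq_one_right yy, ← mul_assoc, ← mul_assoc, add_comm] at this

variable (M : BD uP z π R) {y : Cz z} (yy : (y : G) * y = 1) {r : ℕ} {hr : IsCw (bits r)}
  (hy : π y = signC _ hr)
include M yy hy

theorem lab' {x : Vec} (hx : x ∈ leechLattice) (h : (16 : ℤ) ∣ dotInt uP x) :
    ∃ q ∈ Oz z, ∃ v : leechLattice, (v : Vec) = sg r x + x ∧ R (q * y * q⁻¹ * y) v := by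
  obtain ⟨q, hq⟩ := M.ex' ⟨x, hx⟩ h
  exact ⟨q, M.mem hq, _, by rw [hy]; rfl, M.lab yy hq⟩

theorem nb {i j : GolayPt} (h : (16 : ℤ) ∣ dotInt uP (w4 i j 1 rfl : Vec) ∧
    Hf (uu - (sg r (w4 i j 1 rfl) + w4 i j 1 rfl) - uP)) : ∃ a, R a uu ∧ a * y = y * a := by
  obtain ⟨q, -, v, e, k⟩ := M.lab' yy hy (w4 i j 1 rfl).2 h.1
  have k' := M.of_cg k (cg_of rfl e (.inr h.2))
  exact ⟨_, k', comm_of_sq yy ((M.sq_iff k').2 (by rw [sqNorm_uu]))⟩

omit yy in
theorem odd (rs : List ℕ) (h : ∀ s ∈ rs, lvec s ∈ leechLattice ∧ sqNorm (lvec s) = 32 ∧ dotInt uP (lvec s) = -16 ∧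
    (Hf (lvec s - sg r (lvec s)) ∨ Hf (lvec s - sg r (lvec s) - uP))) :
    (∃ t l, R t l ∧ T22 uP l ∧ t * y = y * t) ∨ ∃ q, ∃ v : leechLattice, R q v ∧ (v : Vec) = (rs.map lvec).sum ∧
      y * q * (y : G)⁻¹ = z ^ rs.length * q := by
  induction rs with
  | nil => exact .inr ⟨1, 0, M.one (.refl _ _), rfl, by simp⟩
  | cons s rs ih =>
    obtain ⟨a, b, c, d⟩ := h s (by simp)
    obtain ⟨t, ht⟩ := M.ex22 (l := ⟨_, a⟩) ⟨b, c⟩
    rcases ih fun s hs => h s (by simp [hs]) with k | ⟨q, v, k1, k2, k3⟩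
    · exact .inl k
    rcases M.uniq ht (M.of_cg (M.conj y ht) (cg_of rfl (by rw [hy]; rfl) d)) with e | e
    · exact .inl ⟨t, _, ht, ⟨b, c⟩, (mul_inv_eq_iff_eq_mul.1 e).symm⟩
    · refine .inr ⟨_, _, M.mul ht k1, by rw [AddSubgroup.coe_add, k2]; rfl, ?_⟩
      rw [← conj_mul, e, k3, List.length_cons, pow_succ', mul_assoc, mul_assoc, ← mul_assoc t,
        ((show Commute t z from M.lx.cen t (M.mem ht)).pow_right _).eq, mul_assoc]

theorem fix22 (rs : List ℕ) (x : ℕ) (h : (∀ s ∈ rs, lvec s ∈ leechLattice ∧ sqNorm (lvec s) = 32 ∧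
    dotInt uP (lvec s) = -16 ∧ (Hf (lvec s - sg r (lvec s)) ∨ Hf (lvec s - sg r (lvec s) - uP))) ∧
    rs.length % 2 = 1 ∧ lvec x ∈ leechLattice ∧ (16 : ℤ) ∣ dotInt uP (lvec x) ∧
    (32 : ℤ) ∣ sqNorm (sg r (lvec x) + lvec x) ∧ (Hf ((rs.map lvec).sum - (sg r (lvec x) + lvec x)) ∨
      Hf ((rs.map lvec).sum - (sg r (lvec x) + lvec x) - uP))) : ∃ t l, R t l ∧ T22 uP l ∧ t * y = y * t := by
  obtain ⟨h1, h2, h3, h4, h5, h6⟩ := h
  refine (M.odd hy rs h1).resolve_right fun ⟨q, v, k1, k2, k3⟩ => ?_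
  obtain ⟨p, -, w, e, k⟩ := M.lab' yy hy h3 h4
  have c := comm_of_sq yy ((M.sq_iff k).2 (e ▸ h5))
  rw [← Nat.div_add_mod rs.length 2, h2, pow_succ, pow_mul, pow_two, M.lx.sq, one_pow, one_mul] at k3
  refine M.lx.ne (mul_eq_right.1 (k3.symm.trans (mul_inv_eq_iff_eq_mul.2 ?_)))
  rcases M.uniq (M.of_cg k (cg_of k2 e h6)) k1 with l | l <;> rw [l]
  exacts [c.symm, by rw [← mul_assoc, mem_Cz.1 y.2, mul_assoc, ← c, mul_assoc z]]

end BD

theorem BD.dod {z : G} {π : Cz z →* Co0} {R : G → leechLattice → Prop} (M : BD uP z π R) {y : Cz z}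
    (yy : (y : G) * y = 1) (hy : π y = signC _ cw12) : Dod z y := by
  have key : ∀ i ∈ JJ, ∀ j ∈ JJ, i ≠ j → ∀ e (he : e % 2 = 1), e = 1 ∨ e = -1 →
      ∃ q ∈ Oz z, R (q * y * q⁻¹ * y) (w4 i j e he) ∧ T24 uP (w4 i j e he) := fun i hi j hj n e he e1 => by
    obtain ⟨a, b, c⟩ := xv_ok i hi j hj n e (by simpa using e1)
    obtain ⟨q, hq, v, k1, k2⟩ := M.lab' yy hy a (by rw [b]; exact dvd_zero _)
    exact ⟨q, hq, (show v = w4 i j e he from Subtype.ext (funext fun p => by rw [k1, c, w4_apply])) ▸ k2,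
      t24_w4 hi hj n he (by rcases e1 with rfl | rfl <;> rfl)⟩
  refine ⟨?_, ?_, fun c hc => ?_⟩
  · obtain ⟨q, hq, v, k1, k2⟩ := M.lab' yy hy (x := lvec 0x8c6318c6318c62f8be317c62f7bdf3) (by decide +kernel)
      (by decide +kernel)
    exact ⟨q, hq, (M.lx.sqr _ (M.mem k2)).resolve_left fun k => absurd (k1 ▸ (M.sq_iff k2).1 k) (by decide +kernel)⟩
  · let p : Fin 5 → GolayPt := ![some 6, some 13, some 16, some 17, some 18]
    have hp : ∀ i, p i ∈ JJ ∧ p i ≠ some 2 ∧ ∀ j, ((w4 (p i) (some 2) 1 rfl : Vec) = w4 (p j) (some 2) 1 rfl ∨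
      (w4 (p i) (some 2) 1 rfl : Vec) = -w4 (p j) (some 2) 1 rfl) → i = j := by decide +kernel
    choose q h1 h2 h3 using fun i => key _ (hp i).1 (some 2) (by decide) (hp i).2.1 1 rfl (.inl rfl)
    exact ⟨q, fun i => ⟨h1 i, (M.sq_iff (h2 i)).2 (by rw [(h3 i).1])⟩, fun i j e => (hp i).2.2 j
      ((T24.pm M.hu (h3 i) (h3 j) (M.congr (e ▸ h2 j) (h2 i))).imp (congrArg Subtype.val) (congrArg Subtype.val))⟩
  · have : ∀ i, ∃ x : Fin 4, π ⟨c i, (hc i).1⟩ =
        signC _ (H14.bits_enc_mem ([0, 57274, 8355404, 8364534].get x)) := fun i => by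
      obtain ⟨x, hx, e⟩ := rigid (M.fix ⟨c i, (hc i).1⟩) fun a ha b hb n e he e1 => by
        obtain ⟨q, -, k1, k2⟩ := key a ha b hb n e he e1
        have k3 := M.conj ⟨c i, (hc i).1⟩ k1
        rw [mul_inv_eq_iff_eq_mul.2 ((hc i).2 _ (M.mem k1)
          (comm_of_sq yy ((M.sq_iff k1).2 (by rw [k2.1]))))] at k3
        exact T24.pm M.hu (M.fix ⟨c i, (hc i).1⟩ ▸ k2.smul _) k2 (M.congr k1 k3)
      obtain ⟨m, rfl⟩ := List.get_of_mem hx
      exact ⟨m, e⟩
    choose f hf using this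
    obtain ⟨i, j, n, e⟩ := Fintype.exists_ne_map_eq_of_card_lt f (by simp)
    exact ⟨i, j, n, (M.ker (⟨c i, (hc i).1⟩⁻¹ * ⟨c j, (hc j).1⟩)).1 (by
      rw [map_mul, map_inv, hf, hf, e, inv_mul_cancel])⟩

/-- an involution outside `Oz z` centralises an element of type `(2, 4)`, and it centralises an element of
type `(2, 2)` or acts as a dodecad -/
theorem BD.cases {u : leechLattice} {z : G} {π : Cz z →* Co0} {R : G → leechLattice → Prop} (M : BD u z π R)
    {y : G} (hy : y ∈ Cz z) (yy : y * y = 1) (hQ : y ∉ Oz z) :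
    (∃ a m, R a m ∧ T24 u m ∧ a * y = y * a) ∧ ((∃ t l, R t l ∧ T22 u l ∧ t * y = y * t) ∨ Dod z y) := by
  obtain ⟨g, e, h⟩ := inv2 M.hu (M.fix ⟨y, hy⟩) (by rw [← map_mul]; exact (M.ker _).2 (show y * y ∈ Oz z from yy ▸ one_mem _))
    fun k => hQ ((M.ker _).1 k)
  have N := M.twist g
  rw [e] at N
  have e' : g⁻¹ • uP = u := by rw [← e, inv_smul_smul]
  have a : (∃ a, R a (g⁻¹ • uu) ∧ a * y = y * a) → ∃ a m, R a m ∧ T24 u m ∧ a * y = y * a :=
    fun ⟨a, b, c⟩ => ⟨a, _, b, e' ▸ T24.smul g⁻¹ t24_uu, c⟩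
  have b : (∃ t l, R t (g⁻¹ • l) ∧ T22 uP l ∧ t * y = y * t) → ∃ t l, R t l ∧ T22 u l ∧ t * y = y * t :=
    fun ⟨a, l, b, c, d⟩ => ⟨a, _, b, e' ▸ c.smul g⁻¹, d⟩
  rcases h with h | h | h
  · exact ⟨a (N.nb (y := ⟨y, hy⟩) yy h (i := some 3) (j := some 1) (by decide +kernel)),
      .inl (b (N.fix22 (y := ⟨y, hy⟩) yy h [0x84210842108421084210842108428c, 0x84210842108421084210842148420c,
        0x84210842108429084210842108420c] 0x842107421094a1293a1084a5084210 (by decide +kernel)))⟩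
  · exact ⟨a (N.nb (y := ⟨y, hy⟩) yy h (i := some 3) (j := some 2) (by decide +kernel)),
      .inr (N.dod (y := ⟨y, hy⟩) yy h)⟩
  · exact ⟨a (N.nb (y := ⟨y, hy⟩) yy h (i := some 3) (j := some 1) (by decide +kernel)),
      .inl (b (N.fix22 (y := ⟨y, hy⟩) yy h [0x84210842108421084210842108428c, 0x742108421084a1294a50842109420e,
        0x742108421084a12949d0842107420e, 0x7421084a508421084a52842508420e, 0x7421084a508421083a52841d08420e]
        0x842108421284a508421094a1094a50 (by decide +kernel)))⟩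

end Cfsg.Agent.BMU
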